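import Groth.Agent.IdealSh.IdealMod
import Groth.Agent.IdealSh.Comap
import Groth.Agent.IdealSh.EffCartier
import Groth.Agent.LFFrame.Basic
import Mathlib.AlgebraicGeometry.IdealSheaf.Functorial

/-!
# Pullback of the ideal module of an effective Cartier divisor
-/

set_option autoImplicit false
set_option linter.style.haveILetI false
set_option backward.isDefEq.respectTransparency false
set_option backward.isDefEq.respectTransparency.types false
set_option maxHeartbeats 800000

universe u

noncomputable section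

open CategoryTheory CategoryTheory.Limits AlgebraicGeometry TopologicalSpace Opposite
open Groth.Agent.PullStalk.Sky Groth.Agent.Omega.Stalks Groth.Agent.LFFrame OmegaSh Groth.Agent.IdealSh

namespace Groth.Agent.IdealPull

variable {X Y : Scheme.{u}} (f : X ⟶ Y) (I : Y.IdealSheafData)

theorem exists_comap_fac : ∃ p : (I.comap f).subscheme ⟶ I.subscheme,
    p ≫ I.subschemeι = (I.comap f).subschemeι ≫ f :=
  ⟨(I.comapIso f).hom ≫ pullback.snd _ _, by
    rw [Category.assoc, ← pullback.condition, ← Category.assoc, Scheme.IdealSheafData.comapIso_hom_fst]⟩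

theorem app_app_sect (U : Y.Opens) (s : Γ(ClSub.idealMod I, U)) :
    (I.comap f).subschemeι.app (f ⁻¹ᵁ U) (f.app U (idealSect I U s)) = 0 := by
  obtain ⟨p, hp⟩ := exists_comap_fac f I
  have h := congrArg (fun t => t (idealSect I U s)) (congrArg (fun t => (CommRingCat.Hom.hom t : _ → _))
    (Scheme.Hom.congr_app hp U))
  simp only [Scheme.Hom.comp_app, CommRingCat.hom_comp, RingHom.comp_apply, IdealMod.app_sect I U s, map_zero] at h
  have h2 : Function.Injective ((I.comap f).subscheme.presheaf.map (eqToHom (by rw [hp])).op :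
      Γ((I.comap f).subscheme, ((I.comap f).subschemeι ≫ f) ⁻¹ᵁ U) ⟶ Γ((I.comap f).subscheme, (p ≫ I.subschemeι) ⁻¹ᵁ U)).hom :=
    (ConcreteCategory.bijective_of_isIso _).1
  exact h2 (h.symm.trans (map_zero _).symm)

/-- The section of `I.comap f` under a section of `I`. -/
def transfer (U : Y.Opens) (s : Γ(ClSub.idealMod I, U)) : Γ(ClSub.idealMod (I.comap f), f ⁻¹ᵁ U) :=
  (IdealMod.exists_sect (I.comap f) (f ⁻¹ᵁ U) _ (app_app_sect f I U s)).choose

theorem idealSect_transfer (U : Y.Opens) (s : Γ(ClSub.idealMod I, U)) :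
    idealSect (I.comap f) (f ⁻¹ᵁ U) (transfer f I U s) = f.app U (idealSect I U s) :=
  (IdealMod.exists_sect (I.comap f) (f ⁻¹ᵁ U) _ (app_app_sect f I U s)).choose_spec

/-- The comparison into the direct image. -/
def toPush : ClSub.idealMod I ⟶ (Scheme.Modules.pushforward f).obj (ClSub.idealMod (I.comap f)) :=
  ⟨PresheafOfModules.homMk
    { app := fun U => AddCommGrpCat.ofHom (show Γ(ClSub.idealMod I, U.unop) →+ Γ(ClSub.idealMod (I.comap f), f ⁻¹ᵁ U.unop) from
        AddMonoidHom.mk' (transfer f I U.unop) fun a b => idealSect_injective _ _ (by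
          rw [map_add (idealSect (I.comap f) _), idealSect_transfer, idealSect_transfer, idealSect_transfer,
            map_add (idealSect I _), map_add]))
      naturality := fun {U V} i => by
        ext s
        refine idealSect_injective (I.comap f) _ ?_
        show idealSect (I.comap f) (f ⁻¹ᵁ V.unop) (transfer f I V.unop ((ClSub.idealMod I).presheaf.map i s)) =
          idealSect (I.comap f) (f ⁻¹ᵁ V.unop)
            ((ClSub.idealMod (I.comap f)).presheaf.map ((Opens.map f.base).map i.unop).op (transfer f I U.unop s))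
        rw [idealSect_transfer, idealSect_map, idealSect_transfer]
        show f.app V.unop (idealSect I V.unop ((ClSub.idealMod I).presheaf.map i.unop.op s)) = _
        rw [idealSect_map]
        exact NatTrans.naturality_apply f.c i _ }
    (fun U (r : Γ(Y, U.unop)) (s : Γ(ClSub.idealMod I, U.unop)) => idealSect_injective (I.comap f) _ (by
      show idealSect (I.comap f) (f ⁻¹ᵁ U.unop) (transfer f I U.unop (r • s)) =
        idealSect (I.comap f) (f ⁻¹ᵁ U.unop) (f.app U.unop r • transfer f I U.unop s)
      rw [idealSect_transfer, idealSect_smul, idealSect_smul, idealSect_transfer, map_mul]))⟩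

theorem toPush_app (U : Y.Opens) (s : Γ(ClSub.idealMod I, U)) :
    (toPush f I).app U s = transfer f I U s := rfl

/-- The comparison map. -/
def cmp : (Scheme.Modules.pullback f).obj (ClSub.idealMod I) ⟶ ClSub.idealMod (I.comap f) :=
  ((Scheme.Modules.pullbackPushforwardAdjunction f).homEquiv _ _).symm (toPush f I)

theorem cmp_unitSec (U : Y.Opens) (s : Γ(ClSub.idealMod I, U)) :
    (cmp f I).app (f ⁻¹ᵁ U) (unitSec f (ClSub.idealMod I) U s) = transfer f I U s := by
  have h := ((Scheme.Modules.pullbackPushforwardAdjunction f).homEquiv _ _).apply_symm_apply (toPush f I)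
  rw [Adjunction.homEquiv_unit] at h
  exact congrArg (fun φ => Scheme.Modules.Hom.app φ U s) h

/-- **Pullback of an effective Cartier ideal.** -/
theorem isIso_cmp (hI : BlowUp.IsEffCartierIdeal I) (hJ : BlowUp.IsEffCartierIdeal (I.comap f)) :
    IsIso (cmp f I) := by
  refine isIso_of_locally_bijective _ fun x => ?_
  obtain ⟨U, hxU, g, hg, hU⟩ := hI (f x)
  obtain ⟨T, hxT, hT⟩ := Comap.exists_affine_le x (f ⁻¹ᵁ U.1) hxU
  obtain ⟨S, hxS, a, ha, hS⟩ := hJ x
  obtain ⟨V, hxV, hV⟩ := Comap.exists_affine_le x (T.1 ⊓ S.1) ⟨hxT, hxS⟩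
  have hVU : V.1 ≤ f ⁻¹ᵁ U.1 := (hV.trans inf_le_left).trans hT
  have hVS : V.1 ≤ S.1 := hV.trans inf_le_right
  set g' := f.appLE U.1 V.1 hVU g with hg'
  have hspan : (I.comap f).ideal V = Ideal.span {g'} := Comap.ideal_comap_span_singleton I f U V hVU hU
  have hg'nd : g' ∈ nonZeroDivisors Γ(X, V.1) := by
    have h1 := EffCartier.restrict_eq hVS hS
    have h2 : X.presheaf.map (homOfLE hVS).op a ∈ Ideal.span {g'} := by
      rw [← hspan, h1]; exact Ideal.subset_span rfl
    obtain ⟨b, hb⟩ := Ideal.mem_span_singleton'.1 h2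
    have h3 := EffCartier.map_res_mem_nonZeroDivisors hVS ha
    refine mem_nonZeroDivisors_iff_right.2 fun z hz => (mem_nonZeroDivisors_iff_right.1 h3) z ?_
    rw [← hb, mul_left_comm, hz, mul_zero]
  obtain ⟨e, he, heg⟩ := IdealMod.exists_isFrame_of_equation I hg hU
  obtain ⟨d, hd, hdg⟩ := IdealMod.exists_isFrame_of_equation (I.comap f) hg'nd hspan
  have he' := he.pullback f
  refine ⟨V.1, hxV, fun W hW => ?_⟩
  have hbase : (cmp f I).app W (((Scheme.Modules.pullback f).obj (ClSub.idealMod I)).presheaf.map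
      (homOfLE (hW.trans hVU)).op (unitSec f (ClSub.idealMod I) U.1 (e 0))) =
      (ClSub.idealMod (I.comap f)).presheaf.map (homOfLE hW).op (d 0) := by
    refine (NatTrans.naturality_apply (cmp f I).mapPresheaf (homOfLE (hW.trans hVU)).op _).trans ?_
    show (ClSub.idealMod (I.comap f)).presheaf.map (homOfLE (hW.trans hVU)).op
      ((cmp f I).app (f ⁻¹ᵁ U.1) (unitSec f (ClSub.idealMod I) U.1 (e 0))) = _
    rw [cmp_unitSec]
    refine idealSect_injective _ _ ?_
    rw [idealSect_map, idealSect_map, idealSect_transfer, heg, hdg, hg', Scheme.Hom.appLE]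
    show _ = X.presheaf.map (homOfLE hW).op (X.presheaf.map (homOfLE hVU).op (f.app U.1 g))
    simp only [CommRingCat.hom_comp, RingHom.comp_apply]
    rw [← ConcreteCategory.comp_apply (X.presheaf.map (homOfLE hVU).op), ← Functor.map_comp]
    rfl
  have hcomb : ∀ c : Fin 1 → Γ(X, W), (cmp f I).app W (comb _ (fun i => unitSec f (ClSub.idealMod I) U.1 (e i))
      (hW.trans hVU) c) = comb _ d hW c := by
    intro c
    simp only [comb, Fin.sum_univ_one, Scheme.Modules.Hom.app_smul]
    rw [hbase]
  have h1 := he' W (hW.trans hVU)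
  refine (Function.Bijective.of_comp_iff _ h1).1 ?_
  rw [show ((cmp f I).app W) ∘ comb _ (fun i => unitSec f (ClSub.idealMod I) U.1 (e i)) (hW.trans hVU) =
    comb _ d hW from funext hcomb]
  exact hd W hW

end Groth.Agent.IdealPull
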